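import Cfsg.Agent.H5.ON.Order
import Cfsg.Agent.H83.ONUpper.Main

/-!
The table of 122760 cosets is exact: representatives lie in pairwise distinct cosets.
-/

set_option autoImplicit false

namespace Cfsg.Agent.H83.ONUpper

open Cfsg.Spor

/-- The table is a faithful picture of the right cosets of `⟨a, …, f⟩`. -/
theorem table_exact : ∃ rep : ℕ → ON, rep 0 = 1 ∧
    (∀ i l, i < 122760 → l < 8 → tgt8 tab i l < 122760) ∧
    (∀ i, i < 122760 → ∀ l, l < 8 → rep i * let8 l * (rep (tgt8 tab i l))⁻¹ ∈ W0) ∧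
    (∀ x : ON, ∃ i < 122760, x * (rep i)⁻¹ ∈ W0) ∧
    ∀ i j, i < 122760 → j < 122760 → rep i * (rep j)⁻¹ ∈ W0 → i = j := by
  obtain ⟨rep, h0, hlt, hE, hcov⟩ := table_cover
  refine ⟨rep, h0, hlt, hE, hcov, fun i j hi hj hij => ?_⟩
  let π : Fin 122760 → ON ⧸ W0 := fun k => QuotientGroup.mk (rep k.1)⁻¹
  have hs : Function.Surjective π := by
    intro q
    obtain ⟨x, rfl⟩ := QuotientGroup.mk_surjective q
    obtain ⟨k, hk, hx⟩ := hcov x⁻¹
    refine ⟨⟨k, hk⟩, ?_⟩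
    simp only [π, QuotientGroup.eq, inv_inv]
    simpa using W0.inv_mem hx
  haveI : Finite (ON ⧸ W0) := Finite.of_surjective _ hs
  have hb : Function.Bijective π :=
    (Nat.bijective_iff_surjective_and_card π).mpr
      ⟨hs, by rw [Nat.card_fin]; exact H5.ON.index_eq.symm⟩
  refine congrArg Fin.val (hb.1 (a₁ := ⟨i, hi⟩) (a₂ := ⟨j, hj⟩) ?_)
  simp only [π, QuotientGroup.eq, inv_inv]
  exact hij

end Cfsg.Agent.H83.ONUpper
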